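import Mathlib
import Cfsg.Agent.Lib.S3358.U1
import Cfsg.Agent.Lib.Zass.SmallB

/-!
# S0686, group-theoretic core

`H` a finite group with `PU H` (all subgroups of order `p²` cyclic), `A` a maximal normal abelian
subgroup, `N ⊴ H` centralizing `A`, non-abelian and minimal with these properties. If every
perfect non-trivial subgroup of `H` is `SL(2,5)` then `N ≃* Q₈` or `N ≃* SL(2,5)`.
-/

set_option autoImplicit false
set_option linter.unusedSectionVars false
set_option linter.style.haveILetI false

namespace Cfsg.Agent.Lib.Helper5.S0686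

open Subgroup Cfsg.Agent.S3358L

universe u

variable {H : Type u} [Group H]

/-- abelian `H`-normal subgroups of `N` are central in `N` -/
theorem central_of_abelian (A : Subgroup H) (hAn : A.Normal) (hAc : IsMulCommutative A)
    (hAmax : ∀ B : Subgroup H, B.Normal → IsMulCommutative B → A ≤ B → B = A)
    (N : Subgroup H) (hNle : N ≤ centralizer (A : Set H))
    (M : Subgroup H) (hMn : M.Normal) (hMN : M ≤ N) (hMc : IsMulCommutative M) :
    ∀ m ∈ M, ∀ n ∈ N, m * n = n * m := by
  have hcommAM : ∀ a ∈ A, ∀ m ∈ M, a * m = m * a := by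
    intro a ha m hm
    exact mem_centralizer_iff.1 (hNle (hMN hm)) a ha
  have hBc : IsMulCommutative (A ⊔ M : Subgroup H) := by
    rw [Subgroup.sup_eq_closure]
    apply Subgroup.isMulCommutative_closure
    rintro x (hx | hx) y (hy | hy)
    · exact congrArg Subtype.val (hAc.is_comm.comm ⟨x, hx⟩ ⟨y, hy⟩)
    · exact hcommAM x hx y hy
    · exact (hcommAM y hy x hx).symm
    · exact congrArg Subtype.val (hMc.is_comm.comm ⟨x, hx⟩ ⟨y, hy⟩)
  have hBn : (A ⊔ M : Subgroup H).Normal := Subgroup.sup_normal A M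
  have hB := hAmax (A ⊔ M) hBn hBc le_sup_left
  have hMA : M ≤ A := by
    rw [← hB]
    exact le_sup_right
  intro m hm n hn
  exact mem_centralizer_iff.1 (hNle hn) m (hMA hm)

/-- generalized quaternion groups of order at least `8` are not commutative -/
theorem quaternion_not_comm {m : ℕ} (hm : 2 ≤ m) :
    (QuaternionGroup.a 1 : QuaternionGroup m) * QuaternionGroup.xa 0 ≠
      QuaternionGroup.xa 0 * QuaternionGroup.a 1 := by
  intro h
  rw [QuaternionGroup.a_mul_xa, QuaternionGroup.xa_mul_a] at h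
  have h1 : (0 - 1 : ZMod (2 * m)) = 0 + 1 := QuaternionGroup.xa.inj h
  have h2 : ((2 : ℕ) : ZMod (2 * m)) = 0 := by
    have : (2 : ZMod (2 * m)) = 0 := by linear_combination -h1
    exact_mod_cast this
  rw [ZMod.natCast_eq_zero_iff] at h2
  have := Nat.le_of_dvd (by norm_num) h2
  omega

variable [Finite H]

/-- the group-theoretic core of S0686 -/
theorem core (hU : PU H)
    (hZ : ∀ K : Subgroup H, _root_.commutator K = ⊤ → Nontrivial K →
      Nonempty (K ≃* Matrix.SpecialLinearGroup (Fin 2) (ZMod 5)))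
    (A : Subgroup H) (hAn : A.Normal) (hAc : IsMulCommutative A)
    (hAmax : ∀ B : Subgroup H, B.Normal → IsMulCommutative B → A ≤ B → B = A)
    (N : Subgroup H) (hNn : N.Normal) (hNle : N ≤ centralizer (A : Set H))
    (hNna : ¬ IsMulCommutative N)
    (hNmin : ∀ M : Subgroup H, M.Normal → M ≤ N → ¬ IsMulCommutative M → M = N) :
    Nonempty (N ≃* QuaternionGroup 2) ∨
      Nonempty (N ≃* Matrix.SpecialLinearGroup (Fin 2) (ZMod 5)) := by
  classical
  haveI := hNn
  have hcent := central_of_abelian A hAn hAc hAmax N hNle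
  have hprop : ∀ M : Subgroup H, M.Normal → M ≤ N → M ≠ N →
      ∀ m ∈ M, ∀ n ∈ N, m * n = n * m := by
    intro M hMn hMN hne
    by_cases hMc : IsMulCommutative M
    · exact hcent M hMn hMN hMc
    · exact absurd (hNmin M hMn hMN hMc) hne
  have hNnt : Nontrivial N := by
    by_contra h
    rw [not_nontrivial_iff_subsingleton] at h
    exact hNna ⟨⟨fun a b => Subsingleton.elim _ _⟩⟩
  by_cases hperf : ⁅N, N⁆ = N
  · right
    apply hZ N _ hNnt
    apply Subgroup.map_injective N.subtype_injective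
    rw [Subgroup.map_subtype_commutator, hperf, ← MonoidHom.range_eq_map, N.range_subtype]
  left
  have hDn : (⁅N, N⁆ : Subgroup H).Normal := inferInstance
  have hDc := hprop ⁅N, N⁆ hDn (Subgroup.commutator_le_self N) hperf
  haveI hnil : Group.IsNilpotent N := by
    apply Subgroup.isNilpotent_of_ker_le_center (Abelianization.of : N →* Abelianization N)
    rw [Abelianization.ker_of]
    intro c hc
    rw [mem_center_iff]
    intro n
    apply Subtype.ext
    have hc' : (c : H) ∈ ⁅N, N⁆ := by
      rw [← Subgroup.map_subtype_commutator]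
      exact ⟨c, hc, rfl⟩
    exact (hDc c hc' n n.2).symm
  haveI : Fact (Nat.Prime 2) := ⟨Nat.prime_two⟩
  obtain ⟨P₂⟩ : Nonempty (Sylow 2 N) := inferInstance
  haveI hP₂n : (P₂ : Subgroup N).Normal := inferInstance
  set Q : Subgroup H := (P₂ : Subgroup N).map N.subtype with hQ
  have hQn : Q.Normal :=
    Cfsg.Agent.ZassL.map_normal_of_sylow (p := 2) N (P₂ : Subgroup N) hP₂n P₂.card_eq_multiplicity
  have hQN : Q ≤ N := Subgroup.map_subtype_le _
  have hQ2 : IsPGroup 2 Q := P₂.isPGroup'.map _
  have eQ : (P₂ : Subgroup N) ≃* Q := Subgroup.equivMapOfInjective _ _ N.subtype_injective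
  have hquat : ∃ n : ℕ, 1 ≤ n ∧ Nonempty (Q ≃* QuaternionGroup (2 ^ n)) := by
    by_contra hcon
    have hQcyc : IsCyclic Q := by
      rcases U1_pgroup hU 2 Q hQ2 with h | ⟨-, n, ⟨e⟩⟩
      · exact h
      · rcases Nat.eq_zero_or_pos n with hn | hn
        · subst hn
          have hcyc1 : IsCyclic (QuaternionGroup (2 ^ 0)) := by
            rw [pow_zero]; exact QuaternionGroup.quaternionGroup_one_isCyclic
          exact isCyclic_of_surjective e.symm.toMonoidHom e.symm.surjective
        · exact absurd ⟨n, hn, ⟨e⟩⟩ hcon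
    haveI : IsZGroup N := by
      refine ⟨fun p hp P => ?_⟩
      haveI : Fact p.Prime := ⟨hp⟩
      by_cases hp2 : p = 2
      · subst hp2
        haveI := Sylow.unique_of_normal P₂ hP₂n
        have : P = P₂ := Subsingleton.elim _ _
        rw [this]
        exact isCyclic_of_surjective eQ.symm.toMonoidHom eQ.symm.surjective
      · let P' : Subgroup H := (P : Subgroup N).map N.subtype
        have hP' : IsPGroup p P' := P.isPGroup'.map _
        have e : (P : Subgroup N) ≃* P' :=
          Subgroup.equivMapOfInjective _ _ N.subtype_injective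
        rcases U1_pgroup hU p P' hP' with hc | ⟨h2', -⟩
        · exact isCyclic_of_surjective e.symm.toMonoidHom e.symm.surjective
        · exact absurd h2' hp2
    haveI : IsCyclic N := inferInstance
    exact hNna IsCyclic.isMulCommutative
  obtain ⟨n, hn1, ⟨e⟩⟩ := hquat
  haveI : NeZero (2 ^ n) := ⟨pow_ne_zero n two_ne_zero⟩
  have h2n : 2 ≤ 2 ^ n := by
    calc 2 = 2 ^ 1 := rfl
      _ ≤ 2 ^ n := Nat.pow_le_pow_right (by norm_num) hn1
  have hQnc : ¬ IsMulCommutative Q := by
    intro hc
    apply quaternion_not_comm h2n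
    have := hc.is_comm.comm (e.symm (QuaternionGroup.a 1)) (e.symm (QuaternionGroup.xa 0))
    have := congrArg e this
    simpa using this
  have hQeq : Q = N := hNmin Q hQn hQN hQnc
  let e' : N ≃* QuaternionGroup (2 ^ n) := (MulEquiv.subgroupCongr hQeq).symm.trans e
  rcases Nat.lt_or_ge n 2 with hn2 | hn2
  · have hn : n = 1 := by omega
    subst hn
    exact ⟨e'⟩
  exfalso
  set S : Set H := {g | g ∈ N ∧ 4 < orderOf g} with hS
  have hSinv : ∀ g ∈ S, ∀ c : H, c * g * c⁻¹ ∈ S := by
    intro g hg c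
    refine ⟨hNn.conj_mem g hg.1 c, ?_⟩
    have : orderOf (c * g * c⁻¹) = orderOf g := (MulAut.conj c).orderOf_eq g
    rw [this]
    exact hg.2
  have hSform : ∀ g (hg : g ∈ S), ∃ i, e' ⟨g, hg.1⟩ = QuaternionGroup.a i := by
    intro g hg
    rcases hq : e' ⟨g, hg.1⟩ with i | i
    · exact ⟨i, rfl⟩
    · exfalso
      have h1 : orderOf (e' ⟨g, hg.1⟩) = orderOf g := by
        rw [e'.orderOf_eq, Subgroup.orderOf_mk]
      rw [hq, QuaternionGroup.orderOf_xa] at h1
      have := hg.2
      omega
  have hScomm : ∀ x ∈ S, ∀ y ∈ S, x * y = y * x := by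
    intro x hx y hy
    obtain ⟨i, hi⟩ := hSform x hx
    obtain ⟨j, hj⟩ := hSform y hy
    have : (⟨x, hx.1⟩ : N) * ⟨y, hy.1⟩ = ⟨y, hy.1⟩ * ⟨x, hx.1⟩ := by
      apply e'.injective
      rw [map_mul, map_mul, hi, hj, QuaternionGroup.a_mul_a, QuaternionGroup.a_mul_a, add_comm]
    exact congrArg Subtype.val this
  set M := Subgroup.normalClosure S with hM
  have hMn : M.Normal := Subgroup.normalClosure_normal
  have hMN : M ≤ N := Subgroup.normalClosure_le_normal (fun g hg => hg.1)
  have hMc : IsMulCommutative M := by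
    rw [hM, Subgroup.normalClosure]
    apply Subgroup.isMulCommutative_closure
    have hsub : ∀ x ∈ Group.conjugatesOfSet S, x ∈ S := by
      intro x hx
      rw [Group.mem_conjugatesOfSet_iff] at hx
      obtain ⟨a, ha, hax⟩ := hx
      rw [isConj_iff] at hax
      obtain ⟨c, rfl⟩ := hax
      exact hSinv a ha c
    intro x hx y hy
    exact hScomm x (hsub x hx) y (hsub y hy)
  have hcen := hcent M hMn hMN hMc
  set g₀ : N := e'.symm (QuaternionGroup.a 1) with hg₀
  have hg₀S : (g₀ : H) ∈ S := by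
    refine ⟨g₀.2, ?_⟩
    rw [Subgroup.orderOf_coe, hg₀, e'.symm.orderOf_eq, QuaternionGroup.orderOf_a_one]
    have : 2 ^ 2 ≤ 2 ^ n := Nat.pow_le_pow_right (by norm_num) hn2
    omega
  have hg₀M : (g₀ : H) ∈ M := Subgroup.subset_normalClosure hg₀S
  set t₀ : N := e'.symm (QuaternionGroup.xa 0) with ht₀
  have hc0 := hcen (g₀ : H) hg₀M (t₀ : H) t₀.2
  apply quaternion_not_comm h2n
  have h' : g₀ * t₀ = t₀ * g₀ := Subtype.ext hc0
  have := congrArg e' h'
  simpa [hg₀, ht₀] using this

end Cfsg.Agent.Lib.Helper5.S0686
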